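import Cfsg.Agent.H59.SubspaceTransitive
import Cfsg.Agent.H22.Fusion
import Cfsg.Agent.H19.Cores
import Cfsg.Prelude.Def_Perm
import Cfsg.Prelude.Def_CaseTheorems
import Cfsg.Prelude.Def_Transfer
import Mathlib.GroupTheory.SchurZassenhaus

/-!
Groups in which `p`-subgroups of equal order are conjugate and whose Sylow `p`-subgroup is elementary abelian:
the normaliser of the Sylow subgroup.
-/

set_option autoImplicit false

namespace Cfsg.Agent.H59.ConjElementary

open Module Cfsg.Agent

theorem card_semiaffine_le (p n : ℕ) [Fact p.Prime] (hn : n ≠ 0) :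
    Nat.card ↥(Cfsg.semiaffineGroup (GaloisField p n)) ≤ (p ^ n - 1) * (p ^ n) * n ∧
    Nat.card ↥(Cfsg.affineGroup (GaloisField p n)) ≤ (p ^ n - 1) * (p ^ n) := by
  obtain ⟨hfin, hle, -⟩ := SubspaceTransitive.ringAut_card_le p n hn
  haveI := hfin
  constructor
  · have key : ∀ σ : ↥(Cfsg.semiaffineGroup (GaloisField p n)), ∃ t : (GaloisField p n)ˣ × GaloisField p n ×
        (GaloisField p n ≃+* GaloisField p n), ∀ x, σ.1 x = (t.1 : GaloisField p n) * t.2.2 x + t.2.1 :=
      fun σ => by obtain ⟨a, b, φ, h⟩ := σ.2; exact ⟨(a, b, φ), h⟩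
    choose t ht using key
    refine (Nat.card_le_card_of_injective t fun σ τ h => Subtype.ext (Equiv.ext fun x => ?_)).trans ?_
    · rw [ht, ht, h]
    · rw [Nat.card_prod, Nat.card_prod, Nat.card_units, GaloisField.card p n hn, ← mul_assoc]
      exact Nat.mul_le_mul_left _ hle
  · have key : ∀ σ : ↥(Cfsg.affineGroup (GaloisField p n)), ∃ t : (GaloisField p n)ˣ × GaloisField p n,
        ∀ x, σ.1 x = (t.1 : GaloisField p n) * x + t.2 :=
      fun σ => by obtain ⟨a, b, h⟩ := σ.2; exact ⟨(a, b), h⟩
    choose t ht using key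
    refine (Nat.card_le_card_of_injective t fun σ τ h => Subtype.ext (Equiv.ext fun x => ?_)).trans ?_
    · rw [ht, ht, h]
    · rw [Nat.card_prod, Nat.card_units, GaloisField.card p n hn]

section AutToLinear

variable (p : ℕ) (W : Type*) [CommGroup W] [Module (ZMod p) (Additive W)]

/-- An automorphism of a commutative group of exponent `p`, as a linear map. -/
def autLinear (φ : MulAut W) : Additive W ≃ₗ[ZMod p] Additive W :=
  AddEquiv.toLinearEquiv
    ({ toFun := fun v => Additive.ofMul (φ (Additive.toMul v))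
       invFun := fun v => Additive.ofMul (φ.symm (Additive.toMul v))
       left_inv := fun v => congrArg Additive.ofMul (φ.symm_apply_apply (Additive.toMul v))
       right_inv := fun v => congrArg Additive.ofMul (φ.apply_symm_apply (Additive.toMul v))
       map_add' := fun a b => congrArg Additive.ofMul (map_mul φ (Additive.toMul a) (Additive.toMul b)) } :
      Additive W ≃+ Additive W)
    fun c v => ZMod.map_smul (({ toFun := fun v => Additive.ofMul (φ (Additive.toMul v))
                                 map_zero' := congrArg Additive.ofMul (map_one φ)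
                                 map_add' := fun a b => congrArg Additive.ofMul
                                  (map_mul φ (Additive.toMul a) (Additive.toMul b)) }) : Additive W →+ Additive W) c v

theorem autLinear_apply (φ : MulAut W) (v : Additive W) :
    autLinear p W φ v = Additive.ofMul (φ (Additive.toMul v)) := rfl

/-- `autLinear` as a homomorphism. -/
def autToLinear : MulAut W →* (Additive W ≃ₗ[ZMod p] Additive W) where
  toFun := autLinear p W
  map_one' := LinearEquiv.ext fun v => rfl
  map_mul' φ ψ := by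
    ext v
    rfl

/-- An action by automorphisms, as a linear representation. -/
def actToLinear {X : Type*} [Group X] (φ : X →* MulAut W) : X →* (Additive W ≃ₗ[ZMod p] Additive W) :=
  (autToLinear p W).comp φ

end AutToLinear

variable {G : Type*} [Group G] [Finite G] {p : ℕ} [Fact p.Prime]

set_option maxHeartbeats 1000000 in
theorem main (hC : ∀ H K : Subgroup G, IsPGroup p H → IsPGroup p K → Nat.card H = Nat.card K →
      ∃ g : G, K = H.map (MulAut.conj g).toMonoidHom) (P : Sylow p G) (n : ℕ) (hn : 3 ≤ n)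
    (hel : Cfsg.IsElementaryAbelian p (P : Subgroup G)) (hcard : Nat.card P = p ^ n)
    (N : Subgroup G) (hN : N = Subgroup.normalizer ((P : Subgroup G) : Set G))
    (hsolv : Group.IsSolvable (↥N ⧸ Cfsg.pPrimeCore p ↥N)) :
    (n = 3 ∧ (∃ f : ↥N ⧸ Cfsg.pPrimeCore p ↥N →* ↥(Cfsg.semiaffineGroup (GaloisField p 3)), Function.Injective f) ∧
      (p = 2 → Nonempty (↥N ⧸ Cfsg.pPrimeCore p ↥N ≃* Cfsg.semiaffineGroup (GaloisField 2 3)) ∨
               Nonempty (↥N ⧸ Cfsg.pPrimeCore p ↥N ≃* Cfsg.affineGroup (GaloisField 2 3)))) ∨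
    (n = 5 ∧ p = 2 ∧ Nonempty (↥N ⧸ Cfsg.pPrimeCore p ↥N ≃* Cfsg.semiaffineGroup (GaloisField 2 5))) := by
  classical
  have hp : p.Prime := Fact.out
  have hPN : (P : Subgroup G) ≤ N := by rw [hN]; exact Subgroup.le_normalizer
  set P' : Subgroup N := (P : Subgroup G).subgroupOf N with hP'
  haveI hP'n : P'.Normal := by
    subst hN
    exact Subgroup.normal_in_normalizer
  have hP'c : Nat.card P' = p ^ n := by
    rw [hP', Nat.card_congr (Subgroup.subgroupOfEquivOfLe hPN).toEquiv]; exact hcard
  have hcomm : ∀ a b : P', a * b = b * a := fun a b =>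
    Subtype.ext (Subtype.ext (by
      simpa using congrArg Subtype.val (hel.1.is_comm.comm (⟨_, a.2⟩ : (P : Subgroup G)) ⟨_, b.2⟩)))
  let instCG : CommGroup P' := { (inferInstance : Group P') with mul_comm := hcomm }
  have hexp : ∀ v : Additive P', p • v = 0 := fun v =>
    congrArg Additive.ofMul (show (Additive.toMul v) ^ p = 1 from
      Subtype.ext (Subtype.ext (hel.2 _ (Additive.toMul v).2)))
  have instM : Module (ZMod p) (Additive P') := AddCommGroup.zmodModule hexp
  haveI : Finite (Additive P') := inferInstanceAs (Finite P')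
  have hVc : Nat.card (Additive P') = p ^ n := hP'c
  -- the action of `N`
  let ρN := actToLinear p P' (MulAut.conjNormal (G := N) (H := P'))
  have hρN : ∀ (x : N) (w : P'), (((Additive.toMul (ρN x (Additive.ofMul w))) : P') : N) = x * w * x⁻¹ :=
    fun x w => MulAut.conjNormal_apply x w
  have hρP : ∀ v : P', ρN (v : N) = 1 := fun v => LinearEquiv.ext fun w => by
    obtain ⟨w, rfl⟩ := Additive.ofMul.surjective w
    apply Additive.toMul.injective
    apply Subtype.ext
    rw [hρN]
    show (v : N) * w * (v : N)⁻¹ = w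
    rw [← Subgroup.coe_mul, hcomm v w, Subgroup.coe_mul, mul_inv_cancel_right]
  have hdisj : ∀ M : Subgroup N, (Nat.card M).Coprime p → M ⊓ P' = ⊥ := fun M hM =>
    Subgroup.inf_eq_bot_of_coprime (by rw [hP'c]; exact hM.pow_right n)
  haveI := H19.pPrimeCore_normal p N
  set M := Cfsg.pPrimeCore p N with hM
  have hMcop : (Nat.card M).Coprime p := H19.pPrimeCore_coprime (G := N) p
  have hρM : M ≤ ρN.ker := fun z hz => MonoidHom.mem_ker.2 (LinearEquiv.ext fun w => by
    obtain ⟨w, rfl⟩ := Additive.ofMul.surjective w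
    apply Additive.toMul.injective
    apply Subtype.ext
    rw [hρN]
    show z * w * z⁻¹ = w
    rw [(Subgroup.commute_of_normal_of_disjoint M P' inferInstance hP'n (disjoint_iff.2 (hdisj M hMcop)) z w hz w.2).eq,
      mul_inv_cancel_right])
  set Q := ρN.range with hQ
  haveI hQsol : Group.IsSolvable Q := solvable_of_surjective
    (f := QuotientGroup.lift M ρN.rangeRestrict fun z hz => Subtype.ext (hρM hz))
    (fun q => by obtain ⟨x, hx⟩ := ρN.rangeRestrict_surjective q; exact ⟨QuotientGroup.mk x, hx⟩)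
  haveI : Finite Q := Finite.of_surjective _ ρN.rangeRestrict_surjective
  -- transitivity on subspaces
  let j : P' →* G := N.subtype.comp P'.subtype
  have hj : Function.Injective j := N.subtype_injective.comp P'.subtype_injective
  let sub : Submodule (ZMod p) (Additive P') → Subgroup G := fun U =>
    (AddSubgroup.toSubgroup' U.toAddSubgroup).map j
  have hsubP : ∀ U, sub U ≤ (P : Subgroup G) := by
    rintro U _ ⟨w, -, rfl⟩
    exact w.2
  have hsubc : ∀ U, Nat.card (sub U) = p ^ finrank (ZMod p) U := fun U => by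
    haveI : Module.Finite (ZMod p) U := Module.Finite.of_finite
    rw [Subgroup.card_map_of_injective hj,
      show Nat.card (AddSubgroup.toSubgroup' U.toAddSubgroup) = Nat.card U from rfl,
      Module.natCard_eq_pow_finrank (K := ZMod p) (V := U), Nat.card_zmod]
  have htr : ∀ U W : Submodule (ZMod p) (Additive P'), finrank (ZMod p) U = finrank (ZMod p) W →
      ∃ g : Q, U.map (Q.subtype g).toLinearMap = W := by
    intro U W hUW
    obtain ⟨g, hg⟩ := hC (sub U) (sub W) (IsPGroup.of_card (hsubc U)) (IsPGroup.of_card (hsubc W))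
      (by rw [hsubc, hsubc, hUW])
    have hfix : ∀ U, ∀ x ∈ (P : Subgroup G), (fun y => x * y * x⁻¹) '' (sub U : Set G) = sub U := fun U x hx => by
      refine (Set.image_congr fun y hy => ?_).trans (Set.image_id _)
      have := congrArg Subtype.val (hel.1.is_comm.comm (⟨x, hx⟩ : (P : Subgroup G)) ⟨y, hsubP U hy⟩)
      show x * y * x⁻¹ = y
      rw [show x * y = y * x from this, mul_inv_cancel_right]
    obtain ⟨m, hm, hmU⟩ := H22.burnside_fusion P (sub U : Set G) (sub W : Set G) (hfix U) (hfix W) g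
      (by rw [hg]; rfl)
    have hmN : m ∈ N := by rw [hN]; exact hm
    refine ⟨⟨ρN ⟨m, hmN⟩, ⟨m, hmN⟩, rfl⟩, ?_⟩
    ext v
    constructor
    · rintro ⟨u, hu, rfl⟩
      have h1 : m * j (Additive.toMul u) * m⁻¹ ∈ (sub W : Set G) := hmU ▸ ⟨_, ⟨Additive.toMul u, hu, rfl⟩, rfl⟩
      obtain ⟨w, hw, hwe⟩ := h1
      have h2 : Additive.toMul (ρN ⟨m, hmN⟩ (Additive.ofMul (Additive.toMul u))) = w := hj (by
        rw [hwe]
        exact congrArg N.subtype (hρN ⟨m, hmN⟩ (Additive.toMul u)))
      show ρN ⟨m, hmN⟩ u ∈ W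
      rw [← h2] at hw
      exact hw
    · intro hv
      have h1 : j (Additive.toMul v) ∈ (sub W : Set G) := ⟨_, hv, rfl⟩
      rw [← hmU] at h1
      obtain ⟨_, ⟨u, hu, rfl⟩, hue⟩ := h1
      refine ⟨Additive.ofMul u, hu, Additive.toMul.injective (hj ?_)⟩
      refine Eq.trans ?_ hue
      exact congrArg N.subtype (hρN ⟨m, hmN⟩ u)
  obtain ⟨e, hsemi, hbounds⟩ := SubspaceTransitive.semilinear_and_bounds (n := n) hn hVc hQsol Q.subtype
    Q.subtype_injective htr
  -- the permutation representation
  have hcop : (Nat.card P').Coprime P'.index := by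
    rw [hP'c]
    refine Nat.Coprime.pow_left n ((hp.coprime_iff_not_dvd).2 fun h => P.not_dvd_index ?_)
    exact h.trans (Subgroup.relIndex_dvd_index_of_le hPN)
  obtain ⟨K, hK⟩ := Subgroup.exists_right_complement'_of_coprime hcop
  let τ : P' → N ⧸ K := fun w => QuotientGroup.mk (w : N)
  have hdec : ∀ x : N, ∃ v : P', ∃ k ∈ K, x = v * k := fun x => by
    obtain ⟨⟨v, k⟩, hvk⟩ := hK.2 x
    exact ⟨⟨v.1, v.2⟩, k.1, k.2, hvk.symm⟩
  have hτ : Function.Bijective τ := by
    refine ⟨fun a b h => ?_, fun q => ?_⟩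
    · have h1 : (a : N)⁻¹ * b ∈ P' ⊓ K :=
        ⟨P'.mul_mem (P'.inv_mem a.2) b.2, QuotientGroup.eq.1 h⟩
      rw [hK.disjoint.eq_bot, Subgroup.mem_bot] at h1
      exact Subtype.ext (inv_mul_eq_one.1 h1)
    · obtain ⟨x, rfl⟩ := QuotientGroup.mk_surjective q
      obtain ⟨v, k, hk, rfl⟩ := hdec x
      exact ⟨v, QuotientGroup.eq.2 (by simpa [← mul_assoc] using hk)⟩
  let T : GaloisField p n ≃ N ⧸ K :=
    e.symm.toEquiv.trans (Additive.toMul.trans (Equiv.ofBijective τ hτ))
  let f : N →* Equiv.Perm (GaloisField p n) := MonoidHom.mk'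
    (fun x => T.symm.permCongr (MulAction.toPermHom N (N ⧸ K) x)) fun x y => by
      ext z
      simp [Equiv.permCongr_apply, mul_smul]
  have hT : ∀ z, T z = QuotientGroup.mk ((Additive.toMul (e.symm z) : P') : N) := fun z => rfl
  have hf : ∀ (v : P') (k : N), k ∈ K → ∀ z, f (v * k) z = e (ρN k (e.symm z)) + e (Additive.ofMul v) := by
    intro v k hk z
    show T.symm ((v * k : N) • T z) = _
    rw [Equiv.symm_apply_eq, hT, hT, ← map_add, AddEquiv.symm_apply_apply, MulAction.Quotient.smul_mk, toMul_add]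
    refine QuotientGroup.eq.2 ?_
    set w : P' := Additive.toMul (e.symm z)
    have h1 : ((Additive.toMul (ρN k (e.symm z))) : P') = (⟨k * w * k⁻¹, hP'n.conj_mem _ w.2 k⟩ : P') :=
      Subtype.ext (hρN k w)
    rw [toMul_ofMul, hcomm, h1, smul_eq_mul]
    have h3 : ((v : N) * k * (w : N))⁻¹ * ((v : N) * (k * (w : N) * k⁻¹)) = k⁻¹ := by group
    show ((v : N) * k * (w : N))⁻¹ * ((v : N) * (k * (w : N) * k⁻¹)) ∈ K
    rw [h3]; exact K.inv_mem hk
  have hρk : ∀ (v : P') (k : N), ρN (v * k) = ρN k := fun v k => by rw [map_mul, hρP, one_mul]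
  have hlin : ∀ x : N, ∃ (a : (GaloisField p n)ˣ) (σ : GaloisField p n ≃+* GaloisField p n) (b : GaloisField p n),
      (∀ z, f x z = (a : GaloisField p n) * σ z + b) ∧ ∀ u, e (ρN x u) = (a : GaloisField p n) * σ (e u) := by
    intro x
    obtain ⟨v, k, hk, rfl⟩ := hdec x
    obtain ⟨a, σ, h⟩ := hsemi ⟨ρN k, k, rfl⟩
    refine ⟨a, σ, e (Additive.ofMul v), fun z => ?_, fun u => by rw [hρk]; exact h u⟩
    rw [hf v k hk z]
    have := h (e.symm z)
    rw [AddEquiv.apply_symm_apply] at this
    exact congrArg (· + _) this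
  have hrange : f.range ≤ Cfsg.semiaffineGroup (GaloisField p n) := by
    rintro _ ⟨x, rfl⟩
    obtain ⟨a, σ, b, h, -⟩ := hlin x
    exact ⟨a, b, σ, h⟩
  have hkercore : f.ker = K.normalCore := by
    rw [Subgroup.normalCore_eq_ker]
    ext x
    rw [MonoidHom.mem_ker, MonoidHom.mem_ker]
    constructor
    · intro h
      ext q
      have := congrArg (fun σ : Equiv.Perm (GaloisField p n) => T (σ (T.symm q))) h
      simpa [f, Equiv.permCongr_apply] using this
    · intro h
      ext z
      show T.symm ((MulAction.toPermHom N (N ⧸ K) x) (T z)) = z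
      rw [h, Equiv.Perm.one_apply, Equiv.symm_apply_apply]
  have hker : f.ker = M := by
    refine le_antisymm ?_ fun z hz => ?_
    · rw [hkercore]
      refine H19.le_pPrimeCore inferInstance ?_
      refine Nat.Coprime.coprime_dvd_left (Subgroup.card_dvd_of_le K.normalCore_le) ?_
      have h1 : Nat.card K = P'.index := hK.symm.index_eq_card.symm
      rw [h1]
      exact ((Nat.coprime_pow_left_iff (by omega) _ _).1 (hP'c ▸ hcop)).symm
    · obtain ⟨v, k, hk, rfl⟩ := hdec z
      have hρ1 : ρN k = 1 := by rw [← hρk v k]; exact hρM hz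
      have htr' : ∀ (i : ℕ) (x : GaloisField p n), (f (v * k) ^ i) x = x + i • e (Additive.ofMul v) := by
        intro i
        induction i with
        | zero => intro x; simp
        | succ i ih =>
          intro x
          rw [pow_succ', Equiv.Perm.mul_apply, ih, hf v k hk, hρ1, succ_nsmul]
          simp [add_assoc]
      have hb : (Nat.card M) • e (Additive.ofMul v) = 0 := by
        have h1 : ((v : N) * k) ^ Nat.card M = 1 := by
          have := congrArg Subtype.val (pow_card_eq_one' (x := (⟨_, hz⟩ : M)))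
          rwa [Subgroup.coe_pow, OneMemClass.coe_one] at this
        have h2 := htr' (Nat.card M) 0
        rw [← map_pow, h1, map_one] at h2
        simpa using h2.symm
      have hb' : e (Additive.ofMul v) = 0 := by
        have hp0 : p • e (Additive.ofMul v) = 0 := by rw [← map_nsmul, hexp, map_zero]
        have h1 := (addOrderOf_dvd_iff_nsmul_eq_zero.2 hb)
        have h2 := (addOrderOf_dvd_iff_nsmul_eq_zero.2 hp0)
        exact AddMonoid.addOrderOf_eq_one_iff.1 (Nat.eq_one_of_dvd_coprimes hMcop h1 h2)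
      refine MonoidHom.mem_ker.2 (Equiv.ext fun x => ?_)
      rw [hf v k hk, hρ1, hb']
      simp
  let iso : N ⧸ M ≃* f.range := (QuotientGroup.quotientMulEquivOfEq hker.symm).trans
    (QuotientGroup.quotientKerEquivRange f)
  -- the range is large
  have hbig : p ^ n * Nat.card Q ≤ Nat.card f.range := by
    have hq : ∀ q : Q, ∃ k ∈ K, ρN k = q := fun q => by
      obtain ⟨x, hx⟩ := q.2
      obtain ⟨v, k, hk, rfl⟩ := hdec x
      exact ⟨k, hk, (hρk v k).symm.trans hx⟩
    choose k hk hkq using hq
    have hinj : Function.Injective (fun t : GaloisField p n × Q =>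
        (⟨f ((Additive.toMul (e.symm t.1) : P') * k t.2), _, rfl⟩ : f.range)) := by
      intro s t hst
      have h : ∀ z, e (ρN (k s.2) (e.symm z)) + s.1 = e (ρN (k t.2) (e.symm z)) + t.1 := fun z => by
        have h1 := congrArg (fun σ : f.range => σ.1 z) hst
        simp only at h1
        rw [hf _ _ (hk s.2), hf _ _ (hk t.2)] at h1
        simpa using h1
      have h0 := h 0
      simp only [map_zero, zero_add] at h0
      refine Prod.ext h0 (Subtype.ext (LinearEquiv.ext fun u => ?_))
      have h1 := h (e u)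
      rw [h0, AddEquiv.symm_apply_apply, add_left_inj, hkq, hkq] at h1
      exact e.injective h1
    have := Nat.card_le_card_of_injective _ hinj
    rwa [Nat.card_prod, GaloisField.card p n (by omega)] at this
  rcases hbounds with ⟨rfl, h7⟩ | ⟨rfl, rfl, h155⟩
  · refine Or.inl ⟨rfl, ⟨(Subgroup.inclusion hrange).comp iso.toMonoidHom,
      (Subgroup.inclusion_injective hrange).comp iso.injective⟩, fun hp2 => ?_⟩
    subst hp2
    have h7' := h7 rfl
    obtain ⟨hsa, haf⟩ := card_semiaffine_le 2 3 (by norm_num)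
    replace hsa : Nat.card ↥(Cfsg.semiaffineGroup (GaloisField 2 3)) ≤ 168 := hsa
    replace haf : Nat.card ↥(Cfsg.affineGroup (GaloisField 2 3)) ≤ 56 := haf
    replace hbig : 8 * Nat.card Q ≤ Nat.card f.range := hbig
    by_cases hall : ∀ q : Q, ∃ a : (GaloisField 2 3)ˣ, ∀ u, e (Q.subtype q u) = (a : GaloisField 2 3) * e u
    · right
      have hle : f.range ≤ Cfsg.affineGroup (GaloisField 2 3) := by
        rintro _ ⟨x, rfl⟩
        obtain ⟨v, k, hk, rfl⟩ := hdec x
        obtain ⟨a, ha⟩ := hall ⟨ρN k, k, rfl⟩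
        refine ⟨a, e (Additive.ofMul v), fun z => ?_⟩
        rw [hf v k hk z]
        have := ha (e.symm z)
        rw [AddEquiv.apply_symm_apply] at this
        exact congrArg (· + _) this
      have h77 : 7 ≤ Nat.card Q := Nat.le_of_dvd Nat.card_pos h7'
      exact ⟨iso.trans (MulEquiv.subgroupCongr (Subgroup.eq_of_le_of_card_ge hle (by omega)))⟩
    · left
      push Not at hall
      obtain ⟨q, hq⟩ := hall
      obtain ⟨a, σ, hσ⟩ := hsemi q
      obtain ⟨-, -, hpow⟩ := SubspaceTransitive.ringAut_card_le 2 3 (by norm_num)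
      have h3 : 3 ∣ Nat.card Q := by
        by_contra h3
        have hq1 : (Q.subtype q) ^ Nat.card Q = 1 := by rw [← map_pow, pow_card_eq_one', map_one]
        obtain ⟨hσQ, -⟩ := SubspaceTransitive.semilinear_of_pow_eq_one e _ hσ hq1
        have hc : Nat.gcd (Nat.card Q) 3 = 1 :=
          ((Nat.prime_three.coprime_iff_not_dvd).2 h3).symm
        have h1 := pow_gcd_eq_one.2 ⟨hσQ, hpow σ⟩
        rw [hc, pow_one] at h1
        obtain ⟨u, hu⟩ := hq a
        exact hu (by rw [hσ u, h1]; rfl)
      have h21 : 21 ≤ Nat.card Q := Nat.le_of_dvd Nat.card_pos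
        ((by norm_num : Nat.Coprime 3 7).mul_dvd_of_dvd_of_dvd h3 h7')
      exact ⟨iso.trans (MulEquiv.subgroupCongr (Subgroup.eq_of_le_of_card_ge hrange (by omega)))⟩
  · refine Or.inr ⟨rfl, rfl, ⟨iso.trans (MulEquiv.subgroupCongr (Subgroup.eq_of_le_of_card_ge hrange ?_))⟩⟩
    obtain ⟨hsa, -⟩ := card_semiaffine_le 2 5 (by norm_num)
    replace hsa : Nat.card ↥(Cfsg.semiaffineGroup (GaloisField 2 5)) ≤ 4960 := hsa
    replace hbig : 32 * Nat.card Q ≤ Nat.card f.range := hbig
    have : 155 ≤ Nat.card Q := Nat.le_of_dvd Nat.card_pos h155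
    omega

end Cfsg.Agent.H59.ConjElementary
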