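import Cfsg.Agent.H59.GlaubermanAut
import Mathlib.GroupTheory.Transfer
import Mathlib.GroupTheory.Solvable

/-! The automorphisms fixing a Sylow 2-subgroup: abelian Sylow subgroup, normal complement, solvability. -/

set_option autoImplicit false

namespace Cfsg.Agent.H59

open Subgroup
open scoped commutatorElement

variable {C : Type*} [Group C] [Finite C]

theorem sylow_two_abelian_complement (h : Odd (Nat.card (commutator C))) (T : Sylow 2 C) :
    (∀ a b : T, a * b = b * a) ∧
      ∃ N : Subgroup C, N.Normal ∧ Odd (Nat.card N) ∧ Subgroup.IsComplement' N (T : Subgroup C) := by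
  haveI : Fact (Nat.Prime 2) := ⟨Nat.prime_two⟩
  have key : ∀ x ∈ (T : Subgroup C), ∀ y : C, x * y * x⁻¹ * y⁻¹ ∈ (T : Subgroup C) → x * y = y * x := by
    intro x hx y hxy
    rw [← commutatorElement_eq_one_iff_mul_comm]
    have hc : ⁅x, y⁆ ∈ commutator C := commutator_mem_commutator (mem_top x) (mem_top y)
    obtain ⟨k, hk⟩ := T.2 ⟨_, hxy⟩
    have h1 : orderOf ⁅x, y⁆ ∣ 2 ^ k := orderOf_dvd_of_pow_eq_one (congrArg Subtype.val hk)
    exact orderOf_eq_one_iff.mp (Nat.eq_one_of_dvd_coprimes ((Nat.coprime_two_left.mpr h).pow_left k) h1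
      (orderOf_dvd_natCard _ hc))
  have hab : ∀ a b : T, a * b = b * a := fun a b =>
    Subtype.ext (key a a.2 b ((a * b * a⁻¹ * b⁻¹ : T).2))
  have hN : normalizer ((T : Subgroup C) : Set C) ≤ centralizer ((T : Subgroup C) : Set C) := by
    intro n hn
    rw [mem_centralizer_iff]
    intro x hx
    refine key x hx n ?_
    rw [mul_assoc, mul_assoc]
    refine (T : Subgroup C).mul_mem hx ?_
    rw [← mul_assoc]
    exact (mem_normalizer_iff.mp hn x⁻¹).mp ((T : Subgroup C).inv_mem hx)
  refine ⟨hab, (MonoidHom.transferSylow T hN).ker, inferInstance, ?_,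
    MonoidHom.ker_transferSylow_isComplement' T hN⟩
  rw [← Nat.not_even_iff_odd, even_iff_two_dvd]
  exact MonoidHom.not_dvd_card_ker_transferSylow T hN

theorem isSolvable_of_odd_commutator (h : Odd (Nat.card (commutator C)))
    (hFT : ∀ N : Subgroup C, Odd (Nat.card N) → Group.IsSolvable N) : Group.IsSolvable C := by
  haveI : Group.IsSolvable (commutator C) := hFT _ h
  refine Group.isSolvable_of_ker_le_range (commutator C).subtype (Abelianization.of : C →* _) ?_
  rw [Subgroup.range_subtype]
  exact le_of_eq (Abelianization.ker_of C)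

end Cfsg.Agent.H59
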