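import Cfsg.Agent.H78.SolvableTransitiveLinear
import Cfsg.Agent.S2904
import Mathlib.FieldTheory.Finite.GaloisField
import Mathlib.LinearAlgebra.Matrix.GeneralLinearGroup.Card

/-!
Solvable linear groups transitive on the subspaces of each dimension: one-dimensional semilinear groups
in dimension three, or dimension five over the field with two elements.
-/

set_option autoImplicit false

namespace Cfsg.Agent.H59.SubspaceTransitive

open Module Cfsg.Agent

theorem ringAut_card_le (p n : ℕ) [Fact p.Prime] (hn : n ≠ 0) :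
    Finite (GaloisField p n ≃+* GaloisField p n) ∧
      Nat.card (GaloisField p n ≃+* GaloisField p n) ≤ n ∧
      ∀ σ : GaloisField p n ≃+* GaloisField p n, σ ^ n = 1 := by
  set K := GaloisField p n
  let toAlg : (K ≃+* K) → (K ≃ₐ[ZMod p] K) := fun σ =>
    AlgEquiv.ofRingEquiv (f := σ) fun x =>
      RingHom.congr_fun (Subsingleton.elim ((σ : K →+* K).comp (algebraMap (ZMod p) K)) (algebraMap (ZMod p) K)) x
  have hinj : Function.Injective toAlg := fun σ τ h => by
    ext x
    exact DFunLike.congr_fun h x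
  have hc : Nat.card (K ≃ₐ[ZMod p] K) = n := by
    rw [IsGalois.card_aut_eq_finrank, GaloisField.finrank p hn]
  have hmul : ∀ σ τ : K ≃+* K, toAlg (σ * τ) = toAlg σ * toAlg τ := fun σ τ => by ext x; rfl
  let f : (K ≃+* K) →* (K ≃ₐ[ZMod p] K) := MonoidHom.mk' toAlg hmul
  refine ⟨Finite.of_injective toAlg hinj, (Nat.card_le_card_of_injective toAlg hinj).trans hc.le, fun σ => ?_⟩
  apply hinj
  show f (σ ^ n) = f 1
  rw [map_pow, map_one]
  have := pow_card_eq_one' (x := f σ)
  rwa [hc] at this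

variable {p : ℕ} [Fact p.Prime] {V : Type*} [AddCommGroup V] [Module (ZMod p) V]

/-- A semilinear map and its powers. -/
theorem exists_pow_semilinear {n : ℕ} (e : V ≃+ GaloisField p n) (f : V ≃ₗ[ZMod p] V)
    {a : GaloisField p n} {σ : GaloisField p n ≃+* GaloisField p n} (h : ∀ v, e (f v) = a * σ (e v)) (m : ℕ) :
    ∃ b : GaloisField p n, (∀ v, e ((f ^ m) v) = b * (σ ^ m) (e v)) ∧ (σ = 1 → b = a ^ m) := by
  induction m with
  | zero => exact ⟨1, fun v => by simp, fun _ => by simp⟩
  | succ m ih =>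
    obtain ⟨b, hb, hb'⟩ := ih
    refine ⟨a * σ b, fun v => ?_, fun hσ => ?_⟩
    · rw [pow_succ', pow_succ', LinearEquiv.mul_apply, h, hb, map_mul, ← mul_assoc]
      rfl
    · rw [hb' hσ, hσ, pow_succ']
      rfl

theorem semilinear_of_pow_eq_one {n : ℕ} (e : V ≃+ GaloisField p n) (f : V ≃ₗ[ZMod p] V)
    {a : GaloisField p n} {σ : GaloisField p n ≃+* GaloisField p n} (h : ∀ v, e (f v) = a * σ (e v))
    {m : ℕ} (hm : f ^ m = 1) : σ ^ m = 1 ∧ (σ = 1 → a ^ m = 1) := by
  obtain ⟨b, hb, hb'⟩ := exists_pow_semilinear e f h m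
  rw [hm] at hb
  have h1 : b = 1 := by
    have := hb (e.symm 1)
    simpa using this.symm
  refine ⟨RingEquiv.ext fun x => ?_, fun hσ => (hb' hσ).symm.trans h1⟩
  have := hb (e.symm x)
  simpa [h1] using this.symm

/-- Scalars, as linear automorphisms. -/
def scalarHom : (ZMod p)ˣ →* (V ≃ₗ[ZMod p] V) := MonoidHom.mk' (fun c => LinearEquiv.smulOfUnit c) fun c d => by
  ext v
  exact mul_smul (c : ZMod p) (d : ZMod p) v

@[simp] theorem scalarHom_apply (c : (ZMod p)ˣ) (v : V) : scalarHom c v = (c : ZMod p) • v := rfl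

theorem commute_scalar (f : V ≃ₗ[ZMod p] V) (c : (ZMod p)ˣ) : Commute f (scalarHom c) := by
  show f * scalarHom c = scalarHom c * f
  ext v
  exact map_smul f (c : ZMod p) v

/-- Linearly independent pairs, sorted by their span. -/
noncomputable def pairsEquiv :
    {s : Fin 2 → V // LinearIndependent (ZMod p) s} ≃
      Σ U : {U : Submodule (ZMod p) V // finrank (ZMod p) U = 2},
        {s : Fin 2 → U.1 // LinearIndependent (ZMod p) s} :=
  (Equiv.ofBijective (fun x : Σ U : {U : Submodule (ZMod p) V // finrank (ZMod p) U = 2},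
      {s : Fin 2 → U.1 // LinearIndependent (ZMod p) s} =>
      (⟨fun i => (x.2.1 i : V), x.2.2.map' x.1.1.subtype x.1.1.ker_subtype⟩ :
        {s : Fin 2 → V // LinearIndependent (ZMod p) s})) (by
    have hspan : ∀ x : Σ U : {U : Submodule (ZMod p) V // finrank (ZMod p) U = 2},
        {s : Fin 2 → U.1 // LinearIndependent (ZMod p) s},
        Submodule.span (ZMod p) (Set.range fun i => (x.2.1 i : V)) = x.1.1 := by
      rintro ⟨⟨U, hU⟩, s, hs⟩
      haveI : Module.Finite (ZMod p) U := Module.finite_of_finrank_pos (by omega)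
      refine Submodule.eq_of_le_of_finrank_eq (Submodule.span_le.2 (Set.range_subset_iff.2 fun i => (s i).2)) ?_
      rw [hU]
      exact (finrank_span_eq_card (b := fun i => (s i : V)) (hs.map' U.subtype U.ker_subtype)).trans
        (Fintype.card_fin 2)
    constructor
    · intro x y h
      have h' : (fun i => (x.2.1 i : V)) = fun i => (y.2.1 i : V) := congrArg Subtype.val h
      have hU : x.1 = y.1 := Subtype.ext ((hspan x).symm.trans (h' ▸ hspan y))
      obtain ⟨U, s⟩ := x
      obtain ⟨W, t⟩ := y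
      obtain rfl : U = W := hU
      exact congrArg (Sigma.mk U) (Subtype.ext (funext fun i => Subtype.ext (congrFun h' i)))
    · intro t
      refine ⟨⟨⟨Submodule.span (ZMod p) (Set.range t.1), by rw [finrank_span_eq_card t.2, Fintype.card_fin]⟩,
        fun i => ⟨t.1 i, Submodule.subset_span ⟨i, rfl⟩⟩,
        LinearIndependent.of_comp (Submodule.subtype _) (by exact t.2)⟩, rfl⟩)).symm

theorem card_pairs [Finite V] {W : Submodule (ZMod p) V} {d : ℕ} (h : finrank (ZMod p) W = d) (hd : 2 ≤ d) :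
    Nat.card {s : Fin 2 → W // LinearIndependent (ZMod p) s} = (p ^ d - 1) * (p ^ d - p) := by
  haveI : Fintype W := Fintype.ofFinite _
  rw [card_linearIndependent (K := ZMod p) (V := W) (k := 2) (by omega), Fin.prod_univ_two, ZMod.card, h]
  simp

theorem exists_plane [Finite V] {n : ℕ} (hn : 2 ≤ n) (hfin : finrank (ZMod p) V = n) :
    ∃ U : Submodule (ZMod p) V, finrank (ZMod p) U = 2 := by
  haveI : Module.Finite (ZMod p) V := Module.Finite.of_finite
  let b := Module.finBasisOfFinrankEq (ZMod p) V hfin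
  refine ⟨Submodule.span (ZMod p) (Set.range (b ∘ Fin.castLE hn)), ?_⟩
  rw [finrank_span_eq_card (b.linearIndependent.comp _ (Fin.castLE_injective hn)), Fintype.card_fin]

theorem planes_count [Finite V] {n : ℕ} (hn : 2 ≤ n) (hcard : Nat.card V = p ^ n) :
    Nat.card {U : Submodule (ZMod p) V // finrank (ZMod p) U = 2} * ((p ^ 2 - 1) * (p ^ 2 - p)) =
      (p ^ n - 1) * (p ^ n - p) := by
  haveI : Fintype V := Fintype.ofFinite _
  haveI : Fintype {U : Submodule (ZMod p) V // finrank (ZMod p) U = 2} := Fintype.ofFinite _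
  have hfin : finrank (ZMod p) V = n := by
    haveI : Module.Finite (ZMod p) V := Module.Finite.of_finite
    have h := Module.natCard_eq_pow_finrank (K := ZMod p) (V := V)
    rw [hcard, Nat.card_zmod] at h
    exact (Nat.pow_right_injective (Fact.out : p.Prime).two_le h).symm
  have h1 : Nat.card {s : Fin 2 → V // LinearIndependent (ZMod p) s} = (p ^ n - 1) * (p ^ n - p) := by
    rw [card_linearIndependent (K := ZMod p) (V := V) (k := 2) (by omega), Fin.prod_univ_two, ZMod.card, hfin]
    simp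
  rw [← h1, Nat.card_congr pairsEquiv, Nat.card_sigma, Finset.sum_congr rfl fun U _ => card_pairs U.2 le_rfl,
    Finset.sum_const, Finset.card_univ, smul_eq_mul, Nat.card_eq_fintype_card]

variable [Finite V] {Q : Type*} [Group Q] [Finite Q]

/-- The main dichotomy. -/
theorem semilinear_and_bounds {n : ℕ} (hn : 3 ≤ n) (hcard : Nat.card V = p ^ n) (hsol : Group.IsSolvable Q)
    (ρ : Q →* (V ≃ₗ[ZMod p] V)) (hρ : Function.Injective ρ)
    (htr : ∀ U W : Submodule (ZMod p) V, finrank (ZMod p) U = finrank (ZMod p) W →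
      ∃ g : Q, U.map (ρ g).toLinearMap = W) :
    ∃ e : V ≃+ GaloisField p n, (∀ g : Q, ∃ (a : (GaloisField p n)ˣ) (σ : GaloisField p n ≃+* GaloisField p n),
        ∀ v : V, e (ρ g v) = (a : GaloisField p n) * σ (e v)) ∧
      ((n = 3 ∧ (p = 2 → 7 ∣ Nat.card Q)) ∨ (n = 5 ∧ p = 2 ∧ 155 ∣ Nat.card Q)) := by
  classical
  have hp : p.Prime := Fact.out
  haveI : Module.Finite (ZMod p) V := Module.Finite.of_finite
  have hfin : finrank (ZMod p) V = n := by
    have h := Module.natCard_eq_pow_finrank (K := ZMod p) (V := V)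
    rw [hcard, Nat.card_zmod] at h
    exact (Nat.pow_right_injective hp.two_le h).symm
  haveI : Nontrivial V := Module.nontrivial_of_finrank_pos (R := ZMod p) (by omega)
  -- adjoin the scalars
  let Φ : Q × (ZMod p)ˣ →* (V ≃ₗ[ZMod p] V) := MonoidHom.mk' (fun x => ρ x.1 * scalarHom x.2) fun x y => by
    simp only [Prod.fst_mul, Prod.snd_mul, map_mul]
    exact (commute_scalar (ρ y.1) x.2).symm.mul_mul_mul_comm _ _ |>.symm
  set H := Φ.range with hH
  haveI : Group.IsSolvable Q := hsol
  haveI hsolH : Group.IsSolvable H :=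
    solvable_of_surjective (f := Φ.rangeRestrict) Φ.rangeRestrict_surjective
  have hmemρ : ∀ g : Q, ρ g ∈ H := fun g => ⟨(g, 1), by simp [Φ]⟩
  have hmemc : ∀ c : (ZMod p)ˣ, scalarHom c ∈ H := fun c => ⟨(1, c), by simp [Φ]⟩
  haveI : Finite H := Finite.of_surjective _ Φ.rangeRestrict_surjective
  have htv : ∀ v w : V, v ≠ 0 → w ≠ 0 → ∃ g : H, H.subtype g v = w := by
    intro v w hv hw
    obtain ⟨g, hg⟩ := htr (Submodule.span (ZMod p) {v}) (Submodule.span (ZMod p) {w})
      (by rw [finrank_span_singleton hv, finrank_span_singleton hw])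
    have hm : ρ g v ∈ Submodule.span (ZMod p) {w} :=
      hg ▸ ⟨v, Submodule.mem_span_singleton_self v, rfl⟩
    obtain ⟨c, hc⟩ := Submodule.mem_span_singleton.1 hm
    have hc0 : c ≠ 0 := by
      rintro rfl
      rw [zero_smul] at hc
      exact hv ((ρ g).injective (by rw [← hc, map_zero]))
    refine ⟨⟨_, H.mul_mem (hmemc (Units.mk0 c hc0)⁻¹) (hmemρ g)⟩, ?_⟩
    show ((scalarHom (V := V) (Units.mk0 c hc0)⁻¹) * ρ g) v = w
    rw [LinearEquiv.mul_apply, scalarHom_apply, ← hc, smul_smul, Units.val_inv_eq_inv_val, Units.val_mk0,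
      inv_mul_cancel₀ hc0, one_smul]
  have hsl : H78.SemilinearRep H.subtype := by
    rcases H78.solvable_transitive_cases S2904.result hsolH H.subtype H.subtype_injective htv with h | ⟨A, E, h⟩
    · exact h
    exfalso
    rcases h.cases with ⟨hd, -⟩ | ⟨hd, hp3⟩
    · omega
    -- thirteen divides the order
    rw [hfin] at hd
    subst hd
    subst hp3
    obtain ⟨U₀, hU₀⟩ := exists_plane (p := 3) (V := V) (n := 4) (by norm_num) hfin
    let act : MulAction H {U : Submodule (ZMod 3) V // finrank (ZMod 3) U = 2} :=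
      { smul := fun g U => ⟨U.1.map (g : V ≃ₗ[ZMod 3] V).toLinearMap, by rw [LinearEquiv.finrank_map_eq]; exact U.2⟩
        one_smul := fun U => Subtype.ext (Submodule.map_id _)
        mul_smul := fun g h U => Subtype.ext (Submodule.map_comp _ _ _) }
    letI := act
    haveI : MulAction.IsPretransitive H {U : Submodule (ZMod 3) V // finrank (ZMod 3) U = 2} := ⟨fun U W => by
      obtain ⟨g, hg⟩ := htr U.1 W.1 (U.2.trans W.2.symm)
      exact ⟨⟨_, hmemρ g⟩, Subtype.ext hg⟩⟩
    have hS := planes_count (p := 3) (V := V) (n := 4) (by norm_num) hcard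
    norm_num at hS
    have h13 : 13 ∣ Nat.card H := by
      have hi := MulAction.index_stabilizer_of_transitive H
        (⟨U₀, hU₀⟩ : {U : Submodule (ZMod 3) V // finrank (ZMod 3) U = 2})
      have hd : Nat.card {U : Submodule (ZMod 3) V // finrank (ZMod 3) U = 2} ∣ Nat.card H := by
        rw [← hi]; exact Subgroup.index_dvd_card _
      have hc : Nat.card {U : Submodule (ZMod 3) V // finrank (ZMod 3) U = 2} = 130 := by
        have h48 : Nat.card {U : Submodule (ZMod 3) V // finrank (ZMod 3) U = 2} * 48 = 130 * 48 := hS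
        exact Nat.eq_of_mul_eq_mul_right (by norm_num) h48
      exact dvd_trans ⟨10, hc.trans (by norm_num)⟩ hd
    haveI : Fact (Nat.Prime 13) := ⟨by norm_num⟩
    obtain ⟨s, hs⟩ := exists_prime_orderOf_dvd_card' 13 h13
    have hA2 : Nat.card A ∣ 2 := h.card_dvd
    have hne : ¬ 13 ∣ Nat.card A := fun h' => by
      have := Nat.le_of_dvd (by norm_num) (h'.trans hA2)
      omega
    have hrel : A.relIndex E = 4 ^ 2 := by
      have := h.relIndex_eq
      rwa [hfin] at this
    haveI := h.cyclic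
    rcases h.symp.prime_order_bound h.centralizer_le hrel
      (fun a ha => Subgroup.mem_center_iff.1 (h.central ha) s) (by norm_num) hs hne with h1 | ⟨h1, -⟩ <;> omega
  obtain ⟨F₀, _, _, e₀, he₀⟩ := hsl
  haveI : Fintype (GaloisField p n) := Fintype.ofFinite _
  let ι : F₀ ≃+* GaloisField p n := FiniteField.ringEquivOfCardEq (by
    rw [← Nat.card_eq_fintype_card, ← Nat.card_eq_fintype_card, GaloisField.card p n (by omega), ← hcard]
    exact (Nat.card_congr e₀.toEquiv).symm)
  let e : V ≃+ GaloisField p n := e₀.trans ι.toAddEquiv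
  have he : ∀ g : H, ∃ (a : (GaloisField p n)ˣ) (σ : GaloisField p n ≃+* GaloisField p n),
      ∀ v : V, e ((g : V ≃ₗ[ZMod p] V) v) = (a : GaloisField p n) * σ (e v) := by
    intro g
    obtain ⟨a, σ, h⟩ := he₀ g
    have hv : ∀ v, e ((g : V ≃ₗ[ZMod p] V) v) = ι a * (ι.symm.trans (σ.trans ι)) (e v) := fun v => by
      show ι (e₀ ((g : V ≃ₗ[ZMod p] V) v)) = _
      rw [show e₀ ((g : V ≃ₗ[ZMod p] V) v) = a * σ (e₀ v) from h v, map_mul]
      simp [e]
    have ha : ι a ≠ 0 := fun h0 => by
      obtain ⟨v, hv0⟩ := exists_ne (0 : V)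
      have h1 := hv v
      rw [h0, zero_mul, map_eq_zero_iff _ e.injective, LinearEquiv.map_eq_zero_iff] at h1
      exact hv0 h1
    exact ⟨Units.mk0 _ ha, _, hv⟩
  refine ⟨e, fun g => he ⟨_, hmemρ g⟩, ?_⟩
  -- counting
  obtain ⟨hfinAut, hAut, hpow⟩ := ringAut_card_le p n (by omega)
  haveI := hfinAut
  have hHcard : Nat.card H ≤ (p ^ n - 1) * n := by
    choose a σ ha using he
    have hinj : Function.Injective (fun g : H => (a g, σ g)) := fun g g' hgg => by
      simp only [Prod.mk.injEq] at hgg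
      refine Subtype.ext (LinearEquiv.ext fun v => e.injective ?_)
      rw [ha g v, ha g' v, hgg.1, hgg.2]
    refine (Nat.card_le_card_of_injective _ hinj).trans ?_
    rw [Nat.card_prod, Nat.card_units, GaloisField.card p n (by omega)]
    exact Nat.mul_le_mul_left _ hAut
  let P2 := {U : Submodule (ZMod p) V // finrank (ZMod p) U = 2}
  let act : MulAction H P2 :=
    { smul := fun g U => ⟨U.1.map (g : V ≃ₗ[ZMod p] V).toLinearMap, by rw [LinearEquiv.finrank_map_eq]; exact U.2⟩
      one_smul := fun U => Subtype.ext (Submodule.map_id _)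
      mul_smul := fun g h U => Subtype.ext (Submodule.map_comp _ _ _) }
  letI := act
  let actQ : MulAction Q P2 := MulAction.compHom P2 (MonoidHom.mk' (fun g => (⟨ρ g, hmemρ g⟩ : H))
    fun g h => Subtype.ext (map_mul ρ g h))
  haveI hQtr : letI := actQ; MulAction.IsPretransitive Q P2 := by
    letI := actQ
    exact ⟨fun U W => by
      obtain ⟨g, hg⟩ := htr U.1 W.1 (U.2.trans W.2.symm)
      exact ⟨g, Subtype.ext hg⟩⟩
  haveI : MulAction.IsPretransitive H P2 := ⟨fun U W => by
    obtain ⟨g, hg⟩ := htr U.1 W.1 (U.2.trans W.2.symm)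
    exact ⟨⟨_, hmemρ g⟩, Subtype.ext hg⟩⟩
  obtain ⟨U₀, hU₀⟩ := exists_plane (p := p) (V := V) (n := n) (by omega) hfin
  let x₀ : P2 := ⟨U₀, hU₀⟩
  have hS := planes_count (p := p) (V := V) (n := n) (by omega) hcard
  set S := Nat.card P2 with hSdef
  have hSle : S * (p - 1) ≤ Nat.card H := by
    have hst : p - 1 ≤ Nat.card (MulAction.stabilizer H x₀) := by
      rw [← Nat.totient_prime hp, ← ZMod.card_units_eq_totient, ← Nat.card_eq_fintype_card]
      refine Nat.card_le_card_of_injective (fun c : (ZMod p)ˣ => (⟨⟨_, hmemc c⟩, ?_⟩ : MulAction.stabilizer H x₀)) ?_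
      · refine Subtype.ext ?_
        show Submodule.map (scalarHom c).toLinearMap U₀ = U₀
        ext v
        refine ⟨?_, fun hv => ⟨((c⁻¹ : (ZMod p)ˣ) : ZMod p) • v, U₀.smul_mem _ hv, ?_⟩⟩
        · rintro ⟨w, hw, rfl⟩
          exact U₀.smul_mem _ hw
        · show (c : ZMod p) • ((c⁻¹ : (ZMod p)ˣ) : ZMod p) • v = v
          rw [smul_smul, Units.mul_inv, one_smul]
      · intro c d hcd
        obtain ⟨v, hv⟩ := exists_ne (0 : V)
        have h1 := congrArg (fun g : MulAction.stabilizer H x₀ => ((g.1 : V ≃ₗ[ZMod p] V)) v) hcd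
        simp only [scalarHom_apply] at h1
        exact Units.ext (smul_left_injective (ZMod p) hv h1)
    rw [hSdef, ← MulAction.index_stabilizer_of_transitive H x₀,
      ← Subgroup.index_mul_card (MulAction.stabilizer H x₀)]
    exact Nat.mul_le_mul_left _ hst
  have hSQ : S ∣ Nat.card Q := by
    letI := actQ
    haveI := hQtr
    rw [hSdef, ← MulAction.index_stabilizer_of_transitive Q x₀]
    exact Subgroup.index_dvd_card _
  have hSH : S ∣ Nat.card H := by
    rw [hSdef, ← MulAction.index_stabilizer_of_transitive H x₀]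
    exact Subgroup.index_dvd_card _
  have hp2 := hp.two_le
  have key : p ^ (n - 1) - 1 ≤ n * (p ^ 2 - 1) := by
    have h1 : S * ((p ^ 2 - 1) * (p ^ 2 - p)) * (p - 1) ≤ (p ^ n - 1) * n * ((p ^ 2 - 1) * (p ^ 2 - p)) := by
      calc S * ((p ^ 2 - 1) * (p ^ 2 - p)) * (p - 1) = S * (p - 1) * ((p ^ 2 - 1) * (p ^ 2 - p)) := by ring
        _ ≤ _ := Nat.mul_le_mul_right _ (hSle.trans hHcard)
    rw [hS] at h1
    have e1 : p ^ n - p = p * (p ^ (n - 1) - 1) := by
      rw [Nat.mul_sub_one, ← pow_succ', show n - 1 + 1 = n by omega]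
    have e2 : p ^ 2 - p = p * (p - 1) := by rw [Nat.mul_sub_one, sq]
    rw [e1, e2] at h1
    have hpos : 0 < (p ^ n - 1) * (p * (p - 1)) :=
      Nat.mul_pos (Nat.sub_pos_of_lt (Nat.one_lt_pow (by omega) hp2)) (Nat.mul_pos (by omega) (by omega))
    refine Nat.le_of_mul_le_mul_left ?_ hpos
    calc (p ^ n - 1) * (p * (p - 1)) * (p ^ (n - 1) - 1)
        = (p ^ n - 1) * (p * (p ^ (n - 1) - 1)) * (p - 1) := by ring
      _ ≤ _ := h1
      _ = (p ^ n - 1) * (p * (p - 1)) * (n * (p ^ 2 - 1)) := by ring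
  -- an element of prime order l in H, for n = 4
  have hprime : ∀ l : ℕ, l.Prime → n = 4 → l ≠ 2 → l ∣ Nat.card H → ¬ l ∣ p ^ n - 1 → False := by
    intro l hl hn4 hl2 hlH hln
    haveI := Fact.mk hl
    obtain ⟨g, hg⟩ := exists_prime_orderOf_dvd_card' l hlH
    obtain ⟨a, σ, hv⟩ := he g
    have hgl : (g : V ≃ₗ[ZMod p] V) ^ l = 1 := by
      rw [← SubmonoidClass.coe_pow, ← hg, pow_orderOf_eq_one]; rfl
    obtain ⟨hσl, ha⟩ := semilinear_of_pow_eq_one e _ hv hgl
    have hσ : σ = 1 := by
      have hcop : (Nat.gcd l n) = 1 := by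
        rw [hn4]
        exact (Nat.Coprime.pow_right 2 ((Nat.coprime_primes hl Nat.prime_two).2 hl2) : Nat.Coprime l (2 ^ 2))
      have := pow_gcd_eq_one.2 ⟨hσl, hpow σ⟩
      rwa [hcop, pow_one] at this
    have hal : a ^ l = 1 := Units.ext (by rw [Units.val_pow_eq_pow_val]; exact ha hσ)
    have han : a ^ (p ^ n - 1) = 1 := by
      rw [← GaloisField.card p n (by omega), ← Nat.card_units]
      exact pow_card_eq_one'
    have h1 := pow_gcd_eq_one.2 ⟨hal, han⟩
    rw [(hl.coprime_iff_not_dvd.2 hln : Nat.gcd l (p ^ n - 1) = 1), pow_one] at h1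
    have : g = 1 := Subtype.ext (LinearEquiv.ext fun v => e.injective (by rw [hv v, hσ, h1]; simp))
    rw [this, orderOf_one] at hg
    exact hl.one_lt.ne hg
  rcases Nat.lt_or_ge n 4 with h3 | h4
  · obtain rfl : n = 3 := by omega
    refine Or.inl ⟨rfl, fun hp' => ?_⟩
    subst hp'
    norm_num at hS
    exact dvd_trans ⟨1, by omega⟩ hSQ
  rcases Nat.lt_or_ge n 5 with h5 | h5
  · obtain rfl : n = 4 := by omega
    exfalso
    norm_num at key
    have hp3 : p ≤ 3 := by
      by_contra hlt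
      have h9 : 16 ≤ p ^ 2 := by nlinarith
      have h8 : 4 * p ^ 2 ≤ p ^ 3 := by rw [pow_succ p 2, mul_comm 4]; exact Nat.mul_le_mul_left _ (by omega)
      omega
    rcases (show p = 2 ∨ p = 3 by omega) with rfl | rfl
    · norm_num at hS
      exact hprime 7 (by norm_num) rfl (by norm_num) (dvd_trans ⟨5, by omega⟩ hSH) (by norm_num)
    · norm_num at hS
      exact hprime 13 (by norm_num) rfl (by norm_num) (dvd_trans ⟨10, by omega⟩ hSH) (by norm_num)
  have hbig : ∀ i : ℕ, (6 + i) * (p ^ 2 - 1) + 1 < p ^ (5 + i) := by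
    intro i
    have h0 : 6 * p ^ 2 < p ^ 5 := by
      rw [show p ^ 5 = p ^ 2 * p ^ 3 by ring, mul_comm]
      exact Nat.mul_lt_mul_of_pos_left (lt_of_lt_of_le (by norm_num : 6 < 2 ^ 3) (Nat.pow_le_pow_left hp2 3)) (by positivity)
    induction i with
    | zero =>
      have h1 : 1 ≤ p ^ 2 := Nat.one_le_pow _ _ (by omega)
      show 6 * (p ^ 2 - 1) + 1 < p ^ 5
      omega
    | succ i ih =>
      have h2 : 2 * p ^ (5 + i) ≤ p ^ (5 + i + 1) := by
        rw [pow_succ, mul_comm 2]; exact Nat.mul_le_mul_left _ hp2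
      have h9 : p ^ 2 ≤ p ^ (5 + i) := Nat.pow_le_pow_right (by omega) (by omega)
      rw [show 5 + (i + 1) = 5 + i + 1 by ring, show (6 + (i + 1)) * (p ^ 2 - 1) = (6 + i) * (p ^ 2 - 1) + (p ^ 2 - 1) by ring]
      omega
  rcases Nat.lt_or_ge n 6 with h6 | h6
  · obtain rfl : n = 5 := by omega
    norm_num at key
    have hp' : p = 2 := by
      by_contra hne
      have hp3 : 3 ≤ p := by omega
      have h9 : 9 ≤ p ^ 2 := by nlinarith
      have h44 : 9 * p ^ 2 ≤ p ^ 4 := by rw [show p ^ 4 = p ^ 2 * p ^ 2 by ring]; exact Nat.mul_le_mul_right _ h9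
      omega
    subst hp'
    norm_num at hS
    exact Or.inr ⟨rfl, rfl, dvd_trans ⟨1, by omega⟩ hSQ⟩
  · exfalso
    obtain ⟨i, rfl⟩ := Nat.exists_eq_add_of_le h6
    have := hbig i
    rw [show 6 + i - 1 = 5 + i by omega] at key
    omega

end Cfsg.Agent.H59.SubspaceTransitive
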